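import Mathlib
import Cfsg.Prelude.Def_AxialAlgebras

/-! Majorana axes: eigenvectors, transport, fixed vectors. -/

set_option autoImplicit false

namespace Cfsg.Agent.Axial28
open Cfsg.Axial

variable {V : Type*} [AddCommGroup V] [Module ℝ V] {mul : V →ₗ[ℝ] V →ₗ[ℝ] V}
  {B : LinearMap.BilinForm ℝ V}

theorem mem_eigen {a v : V} {c : ℝ} : v ∈ eigen mul a c ↔ mul a v = c • v := by
  rw [eigen, Module.End.mem_eigenspace_iff]

theorem mem_eigenSum_pair {a v : V} {c d : ℝ} :
    v ∈ eigenSum mul a {c, d} ↔ ∃ p ∈ eigen mul a c, ∃ q ∈ eigen mul a d, p + q = v := by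
  rw [eigenSum, iSup_insert, iSup_singleton, Submodule.mem_sup]

theorem mem_eigenSum_single {a v : V} {c : ℝ} : v ∈ eigenSum mul a {c} ↔ v ∈ eigen mul a c := by
  rw [eigenSum, iSup_singleton]

theorem eigen_le_eigenSum {a : V} {c : ℝ} {S : Set ℝ} (hc : c ∈ S) :
    eigen mul a c ≤ eigenSum mul a S :=
  le_iSup₂_of_le (f := fun c (_ : c ∈ S) => eigen mul a c) c hc le_rfl

/-- the four components -/
theorem split_four {a : V} (h : eigenSum mul a majoranaSpectrum = ⊤) (v : V) :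
    ∃ p q r s, mul a p = p ∧ mul a q = 0 ∧ mul a r = (1 / 4 : ℝ) • r ∧
      mul a s = (1 / 32 : ℝ) • s ∧ p + q + r + s = v := by
  have hv : v ∈ eigenSum mul a majoranaSpectrum := h ▸ Submodule.mem_top
  simp only [eigenSum, majoranaSpectrum, iSup_insert, iSup_singleton, Submodule.mem_sup] at hv
  obtain ⟨p, hp, _, ⟨q, hq, _, ⟨r, hr, s, hs, rfl⟩, rfl⟩, rfl⟩ := hv
  rw [mem_eigen] at hp hq hr hs
  exact ⟨p, q, r, s, by rw [hp, one_smul], by rw [hq, zero_smul], hr, hs, by abel⟩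

/-- independence of the three even eigenvalues -/
theorem indep_three {a p q r : V} (hp : mul a p = p) (hq : mul a q = 0)
    (hr : mul a r = (1 / 4 : ℝ) • r) (h : p + q + r = 0) : p = 0 ∧ q = 0 ∧ r = 0 := by
  have h1 : p + (1 / 4 : ℝ) • r = 0 := by
    have := congrArg (mul a) h
    rwa [map_add, map_add, hp, hq, hr, add_zero, map_zero] at this
  have h2 : p + (1 / 16 : ℝ) • r = 0 := by
    have := congrArg (mul a) h1
    rwa [map_add, map_smul, hp, hr, smul_smul, map_zero, show (1 / 4 : ℝ) * (1 / 4) = 1 / 16 by norm_num] at this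
  have hr0 : r = 0 := by
    have h3 : ((1 / 4 : ℝ) - 1 / 16) • r = 0 := by
      rw [sub_smul]
      calc (1 / 4 : ℝ) • r - (1 / 16 : ℝ) • r = (p + (1 / 4 : ℝ) • r) - (p + (1 / 16 : ℝ) • r) := by abel
        _ = 0 := by rw [h1, h2, sub_zero]
    exact (smul_eq_zero.1 h3).resolve_left (by norm_num)
  subst hr0
  rw [smul_zero, add_zero] at h1
  subst h1
  exact ⟨rfl, by simpa using h, rfl⟩

theorem mul_image (g : V ≃ₗ[ℝ] V) (hg : ∀ u v, g (mul u v) = mul (g u) (g v)) (a : V) (c : ℝ) :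
    eigen mul (g a) c = (eigen mul a c).map g.toLinearMap := by
  ext v
  rw [Submodule.mem_map_equiv, mem_eigen, mem_eigen]
  conv_lhs => rw [← g.apply_symm_apply v, ← hg, ← map_smul, g.injective.eq_iff]

theorem eigenSum_image (g : V ≃ₗ[ℝ] V) (hg : ∀ u v, g (mul u v) = mul (g u) (g v)) (a : V)
    (S : Set ℝ) : eigenSum mul (g a) S = (eigenSum mul a S).map g.toLinearMap := by
  simp only [eigenSum, mul_image g hg, Submodule.map_iSup]

/-- conjugates of Majorana pairs -/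
theorem pair_conj {μ μ' : V ≃ₗ[ℝ] V} {a : V} (g : V ≃ₗ[ℝ] V)
    (hg : ∀ u v, g (mul u v) = mul (g u) (g v)) (h : IsMajoranaPair mul B μ a)
    (hgB : ∀ u v, B (g u) (g v) = B u v) (hμ' : ∀ v, μ' (g v) = g (μ v)) :
    IsMajoranaPair mul B μ' (g a) := by
  obtain ⟨hm, hB, ⟨⟨ha0, haa, htop, hfus⟩, hprim⟩, hfix, hneg⟩ := h
  refine ⟨fun u v => ?_, fun u v => ?_, ⟨⟨?_, ?_, ?_, ?_⟩, ?_⟩, ?_, ?_⟩
  · obtain ⟨u, rfl⟩ := g.surjective u
    obtain ⟨v, rfl⟩ := g.surjective v
    rw [← hg, hμ', hm, hg, hμ', hμ']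
  · obtain ⟨u, rfl⟩ := g.surjective u
    obtain ⟨v, rfl⟩ := g.surjective v
    rw [hμ', hμ', hgB, hB, hgB]
  · simpa using ha0
  · rw [← hg, haa]
  · rw [eigenSum_image g hg, htop]
    exact Submodule.map_top _ |>.trans (LinearEquiv.range g)
  · intro c hc d hd u hu v hv
    rw [mul_image g hg] at hu hv
    obtain ⟨u, hu, rfl⟩ := hu
    obtain ⟨v, hv, rfl⟩ := hv
    rw [eigenSum_image g hg]
    exact ⟨_, hfus c hc d hd u hu v hv, hg u v⟩
  · rw [mul_image g hg, hprim, Submodule.map_span, Set.image_singleton]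
    rfl
  · intro v hv
    rw [eigenSum_image g hg] at hv
    obtain ⟨v, hv, rfl⟩ := hv
    show μ' (g v) = g v
    rw [hμ', show μ v = v from hfix v hv]
  · intro v hv
    rw [mul_image g hg] at hv
    obtain ⟨v, hv, rfl⟩ := hv
    show μ' (g v) = -g v
    rw [hμ', show μ v = -v from hneg v hv, map_neg]

/-- vectors fixed by the involution of an axis -/
theorem split_fixed {μ : V ≃ₗ[ℝ] V} {a : V} (hB : IsMajoranaAmbient mul B)
    (h : IsMajoranaPair mul B μ a) (hn : B a a = 1) {v : V} (hv : μ v = v) :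
    ∃ q r, mul a q = 0 ∧ mul a r = (1 / 4 : ℝ) • r ∧ B v a • a + q + r = v := by
  obtain ⟨-, -, ⟨⟨-, haa, htop, -⟩, hprim⟩, hfix, hneg⟩ := h
  obtain ⟨p, q, r, s, hp, hq, hr, hs, hv'⟩ := split_four htop v
  have hE : ∀ {c : ℝ} {x : V}, mul a x = c • x → x ∈ eigen mul a c := fun h => mem_eigen.2 h
  have hfix' : ∀ x, x ∈ eigenSum mul a {1, 0, 1 / 4} → μ x = x := hfix
  have hps : μ v = p + q + r - s := by
    rw [← hv', map_add, map_add, map_add, hfix' p (eigen_le_eigenSum (by simp) (hE (c := 1) (by rw [hp, one_smul]))),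
      hfix' q (eigen_le_eigenSum (by simp) (hE (c := 0) (by rw [hq, zero_smul]))),
      hfix' r (eigen_le_eigenSum (by simp) (hE hr)), show μ s = -s from hneg s (hE hs)]
    abel
  have hs0 : s = 0 := by
    have h2 : (2 : ℝ) • s = 0 := by
      have h3 : p + q + r + s = p + q + r - s := hv'.trans (hv.symm.trans hps)
      calc (2 : ℝ) • s = (p + q + r + s) - (p + q + r - s) := by rw [two_smul]; abel
        _ = 0 := by rw [← h3, sub_self]
    exact (smul_eq_zero.1 h2).resolve_left (by norm_num)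
  obtain ⟨t, rfl⟩ := Submodule.mem_span_singleton.1
    (hprim ▸ hE (c := (1 : ℝ)) (by rw [hp, one_smul]) : p ∈ Submodule.span ℝ {a})
  obtain ⟨-, hsymm, -, hassoc, -⟩ := hB
  have horth : ∀ (c : ℝ) (x : V), c ≠ 1 → mul a x = c • x → B x a = 0 := by
    intro c x hc hx
    have h1 : B a (mul a x) = B (mul a a) x := hassoc a a x
    rw [haa, hx, map_smul, smul_eq_mul] at h1
    have : (c - 1) * B a x = 0 := by rw [sub_mul, h1, one_mul, sub_self]
    rw [hsymm x a]
    exact (mul_eq_zero.1 this).resolve_left (sub_ne_zero.2 hc)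
  refine ⟨q, r, hq, hr, ?_⟩
  subst hs0
  rw [add_zero] at hv'
  have ht : B v a = t := by
    rw [← hv']
    simp only [map_add, map_smul, LinearMap.add_apply, LinearMap.smul_apply, smul_eq_mul, hn,
      horth 0 q (by norm_num) (by rw [hq, zero_smul]), horth _ r (by norm_num) hr]
    ring
  rw [ht, hv']

end Cfsg.Agent.Axial28
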