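import Mathlib
import Cfsg.Agent.Axial28.Basic

/-! A Majorana axis acting on the vectors fixed by its involution. -/

set_option autoImplicit false

namespace Cfsg.Agent.Axial28
open Cfsg.Axial

variable {V : Type*} [AddCommGroup V] [Module ℝ V] {mul : V →ₗ[ℝ] V →ₗ[ℝ] V}
  {B : LinearMap.BilinForm ℝ V} {μ μ' : V ≃ₗ[ℝ] V} {a : V}

noncomputable section

/-- The product corrected by the sum of the factors. -/
def sg (mul : V →ₗ[ℝ] V →ₗ[ℝ] V) (x y : V) : V := mul x y - (1 / 32 : ℝ) • (x + y)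

theorem mul_eq_sg (x y : V) : mul x y = sg mul x y + (1 / 32 : ℝ) • (x + y) := by
  simp [sg]

theorem sg_comm (hV : IsMajoranaAmbient mul B) (x y : V) : sg mul x y = sg mul y x := by
  rw [sg, sg, hV.1 x y, add_comm x y]

theorem sg_image (g : V ≃ₗ[ℝ] V) (hg : ∀ u v, g (mul u v) = mul (g u) (g v)) (x y : V) :
    g (sg mul x y) = sg mul (g x) (g y) := by
  simp [sg, hg]

theorem mem_even {p q r : V} (hp : mul a p = p) (hq : mul a q = 0)
    (hr : mul a r = (1 / 4 : ℝ) • r) : p + q + r ∈ eigenSum mul a ({1, 0, 1 / 4} : Set ℝ) := by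
  have h1 : p ∈ eigen mul a 1 := mem_eigen.2 (by rw [hp, one_smul])
  have h0 : q ∈ eigen mul a 0 := mem_eigen.2 (by rw [hq, zero_smul])
  have h4 : r ∈ eigen mul a (1 / 4) := mem_eigen.2 hr
  exact add_mem (add_mem (eigen_le_eigenSum (by simp) h1) (eigen_le_eigenSum (by simp) h0))
    (eigen_le_eigenSum (by simp) h4)

theorem self_fixed (h : IsMajoranaPair mul B μ a) : μ a = a := by
  obtain ⟨-, -, ⟨⟨-, haa, -, -⟩, -⟩, hfix, -⟩ := h
  have := hfix _ (mem_even (q := 0) (r := 0) haa (map_zero _) (by simp))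
  simpa using this

/-- the even part and the odd part -/
theorem split_two (h : IsMajoranaPair mul B μ a) (v : V) :
    ∃ e s, μ e = e ∧ μ s = -s ∧ mul a s = (1 / 32 : ℝ) • s ∧ e + s = v := by
  obtain ⟨-, -, ⟨⟨-, haa, htop, -⟩, -⟩, hfix, hneg⟩ := h
  obtain ⟨p, q, r, s, hp, hq, hr, hs, hv⟩ := split_four htop v
  refine ⟨p + q + r, s, ?_, hneg s (mem_eigen.2 hs), hs, hv⟩
  exact hfix _ (mem_even hp hq hr)

theorem invol_sq (h : IsMajoranaPair mul B μ a) (v : V) : μ (μ v) = v := by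
  obtain ⟨e, s, he, hs, -, rfl⟩ := split_two h v
  rw [map_add, he, hs, map_add, he, map_neg, hs, neg_neg]

theorem odd_part (h : IsMajoranaPair mul B μ a) (x : V) :
    mul a (x - μ x) = (1 / 32 : ℝ) • (x - μ x) := by
  obtain ⟨e, s, he, hs, hs', rfl⟩ := split_two h x
  have : e + s - μ (e + s) = (2 : ℝ) • s := by rw [map_add, he, hs]; module
  rw [this, map_smul, hs', smul_comm]

theorem invol_unique (h : IsMajoranaPair mul B μ a) (h' : IsMajoranaPair mul B μ' a) : μ = μ' := by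
  refine LinearEquiv.ext fun v => ?_
  obtain ⟨e, s, he, hs, hs', rfl⟩ := split_two h v
  obtain ⟨-, -, ⟨⟨-, -, htop, -⟩, -⟩, hfix, hneg⟩ := h'
  obtain ⟨p, q, r, t, hp, hq, hr, ht, hv⟩ := split_four htop (e + s)
  obtain ⟨-, -, -, hfix0, hneg0⟩ := h
  have hm := mem_even hp hq hr
  rw [← hv]
  change (μ : V →ₗ[ℝ] V) _ = (μ' : V →ₗ[ℝ] V) _
  rw [map_add (μ : V →ₗ[ℝ] V) (p + q + r) t, map_add (μ' : V →ₗ[ℝ] V) (p + q + r) t, hfix0 _ hm, hfix _ hm, hneg0 t (mem_eigen.2 ht), hneg t (mem_eigen.2 ht)]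

theorem sg_invol (h : IsMajoranaPair mul B μ a) (x : V) : sg mul a (μ x) = sg mul a x := by
  have hd := odd_part h x
  rw [map_sub, sub_eq_iff_eq_add] at hd
  rw [sg, sg, hd]
  module

theorem invol_sg (h : IsMajoranaPair mul B μ a) (x : V) : μ (sg mul a x) = sg mul a x := by
  rw [sg_image μ h.1, self_fixed h, sg_invol h]

theorem form_invol (h : IsMajoranaPair mul B μ a) (x : V) : B a (μ x) = B a x := by
  conv_lhs => rw [← self_fixed h]
  exact h.2.1 _ _

/-- Fusion rules for a fixed vector. -/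
theorem fusion_fixed (hV : IsMajoranaAmbient mul B) (h : IsMajoranaPair mul B μ a) (hn : B a a = 1)
    {v w q r : V} (hv : μ v = v) (hw : mul a v = w) (hr : r = (4 : ℝ) • (w - B v a • a))
    (hq : q = v - B v a • a - r) :
    mul a w = (3 / 4 * B v a) • a + (1 / 4 : ℝ) • w ∧
    mul a (mul q q) = 0 ∧ mul a (mul q r) = (1 / 4 : ℝ) • mul q r ∧
    mul a (mul r r) = (1 / 4 * B r r) • a ∧ B r r = B v r := by
  obtain ⟨q', r', hq', hr', he⟩ := split_fixed hV h hn hv
  obtain ⟨-, -, ⟨⟨-, haa, -, hfus⟩, hprim⟩, -, -⟩ := h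
  have hw' : w = B v a • a + (1 / 4 : ℝ) • r' := by
    rw [← hw]
    conv_lhs => rw [← he]
    rw [map_add, map_add, map_smul, haa, hq', hr', add_zero]
  have hre : r = r' := by rw [hr, hw']; module
  have hqe : q = q' := by
    rw [hq, hre]
    nth_rewrite 1 [← he]
    abel
  rw [hre, hqe]
  have law00 : monsterLaw (1 / 4 : ℝ) (1 / 32) 0 0 = {0} := by simp [monsterLaw]
  have law04 : monsterLaw (1 / 4 : ℝ) (1 / 32) 0 (1 / 4) = {1 / 4} := by norm_num [monsterLaw]
  have law44 : monsterLaw (1 / 4 : ℝ) (1 / 32) (1 / 4) (1 / 4) = {1, 0} := by norm_num [monsterLaw]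
  have hS0 : (0 : ℝ) ∈ majoranaSpectrum := by simp [majoranaSpectrum]
  have hS4 : (1 / 4 : ℝ) ∈ majoranaSpectrum := by simp [majoranaSpectrum]
  have hq0 : q' ∈ eigen mul a 0 := mem_eigen.2 (by rw [hq', zero_smul])
  have hr4 : r' ∈ eigen mul a (1 / 4) := mem_eigen.2 hr'
  obtain ⟨hcomm, hsymm, -, hassoc, -⟩ := hV
  have horth : ∀ (c : ℝ) (x : V), c ≠ 1 → mul a x = c • x → B a x = 0 := by
    intro c x hc hx
    have h1 : B a (mul a x) = B (mul a a) x := hassoc a a x
    rw [haa, hx, map_smul, smul_eq_mul] at h1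
    have : (c - 1) * B a x = 0 := by rw [sub_mul, h1, one_mul, sub_self]
    exact (mul_eq_zero.1 this).resolve_left (sub_ne_zero.2 hc)
  refine ⟨?_, ?_, ?_, ?_, ?_⟩
  · rw [hw', map_add, map_smul, map_smul, haa, hr']; module
  · have := hfus 0 hS0 0 hS0 q' hq0 q' hq0
    rw [law00, mem_eigenSum_single, mem_eigen, zero_smul] at this
    exact this
  · have := hfus 0 hS0 _ hS4 q' hq0 r' hr4
    rwa [law04, mem_eigenSum_single, mem_eigen] at this
  · have := hfus _ hS4 _ hS4 r' hr4 r' hr4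
    rw [law44, mem_eigenSum_pair] at this
    obtain ⟨p, hp, z, hz, e⟩ := this
    rw [hprim, Submodule.mem_span_singleton] at hp
    obtain ⟨t, rfl⟩ := hp
    rw [mem_eigen] at hz
    have ht : B a (mul r' r') = 1 / 4 * B r' r' := by
      rw [hassoc a r' r', hr', map_smul, LinearMap.smul_apply, smul_eq_mul]
    rw [← ht, ← e, map_add, map_smul, haa, hz, zero_smul, add_zero, map_add, map_smul,
      smul_eq_mul, hn, horth 0 z (by norm_num) hz, add_zero, mul_one]
  · have hqr : B q' r' = 0 := by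
      have h1 : B r' (mul a q') = B (mul r' a) q' := hassoc _ _ _
      rw [hq', map_zero] at h1
      have h2 : mul r' a = (1 / 4 : ℝ) • r' := by rw [← hr']; exact hcomm _ _
      rw [h2, map_smul, LinearMap.smul_apply, smul_eq_mul] at h1
      rw [hsymm]; linarith
    rw [show B v r' = B v a * B a r' + B q' r' + B r' r' by
      conv_lhs => rw [← he]
      simp, horth _ r' (by norm_num) hr', hqr]
    ring

/-- The axis times its product with another vector. -/
theorem mul_sg (hV : IsMajoranaAmbient mul B) (h : IsMajoranaPair mul B μ a) (hn : B a a = 1)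
    (x : V) : mul a (sg mul a x) = (3 / 4 * B a x - 25 / 1024) • a +
      (7 / 2048 : ℝ) • (x + μ x) + (7 / 32 : ℝ) • sg mul a x := by
  set A : V := (1 / 2 : ℝ) • (x + μ x) with hA
  have hfx : μ A = A := by rw [hA, map_smul, map_add, invol_sq h, add_comm]
  obtain ⟨h1, -, -, -, -⟩ := fusion_fixed hV h hn hfx rfl rfl rfl
  have hA' : mul a A = sg mul a x + (1 / 32 : ℝ) • (a + A) := by
    rw [hA, map_smul, map_add, mul_eq_sg (mul := mul) a x, mul_eq_sg (mul := mul) a (μ x), sg_invol h]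
    module
  have hBA : B A a = B a x := by
    rw [hV.2.1, hA, map_smul, map_add, form_invol h, smul_eq_mul]; ring
  have haa := h.2.2.1.1.2.1
  rw [hA', hBA] at h1
  simp only [map_add, map_smul, haa, hA'] at h1
  rw [hA] at h1
  linear_combination (norm := module) h1

end

end Cfsg.Agent.Axial28
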