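import Mathlib
import Cfsg.Agent.Axial28.SakumaAxis

/-! Products in the algebra generated by two Majorana axes. -/

set_option autoImplicit false

namespace Cfsg.Agent.Axial28
open Cfsg.Axial

variable {V : Type*} [AddCommGroup V] [Module ℝ V] {mul : V →ₗ[ℝ] V →ₗ[ℝ] V}
  {B : LinearMap.BilinForm ℝ V} {μ₀ μ₁ : V ≃ₗ[ℝ] V} {a₀ a₁ : V}

/-- The sum of two products around the axis `a₁`, transported. -/
theorem mul_sg_left (hV : IsMajoranaAmbient mul B) (h₀ : IsMajoranaPair mul B μ₀ a₀)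
    (h₁ : IsMajoranaPair mul B μ₁ a₁) (hn₁ : B a₁ a₁ = 1) :
    mul a₁ (sg mul a₀ a₁) = (3 / 4 * B a₀ a₁ - 25 / 1024) • a₁ +
      (7 / 2048 : ℝ) • (a₀ + μ₁ a₀) + (7 / 32 : ℝ) • sg mul a₀ a₁ ∧
    mul (μ₀ a₁) (sg mul a₀ a₁) = (3 / 4 * B a₀ a₁ - 25 / 1024) • μ₀ a₁ +
      (7 / 2048 : ℝ) • (a₀ + μ₀ (μ₁ a₀)) + (7 / 32 : ℝ) • sg mul a₀ a₁ := by
  have h := mul_sg hV h₁ hn₁ a₀
  rw [sg_comm hV a₁ a₀, hV.2.1 a₁ a₀] at h
  refine ⟨h, ?_⟩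
  have h' := congrArg μ₀ h
  rw [h₀.1, invol_sg h₀] at h'
  simpa [self_fixed h₀, invol_sg h₀] using h'

theorem form_three (hV : IsMajoranaAmbient mul B) (h₀ : IsMajoranaPair mul B μ₀ a₀)
    (h₁ : IsMajoranaPair mul B μ₁ a₁) (hn₁ : B a₁ a₁ = 1) :
    B a₀ (sg mul a₁ (μ₀ a₁)) =
      B a₀ a₁ * (1 - 1 / 16) - 1 / 32 + 1 / 32 * B a₁ (μ₀ a₁) := by
  obtain ⟨-, hsymm, -, hassoc, -⟩ := id hV
  have h1 : B (sg mul a₀ a₁) (μ₀ a₁) = B (sg mul a₀ a₁) a₁ := by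
    conv_lhs => rw [← invol_sg h₀ a₁]
    exact h₀.2.1 _ _
  have h2 : B (sg mul a₀ a₁) a₁ = B a₀ a₁ - 1 / 32 * (B a₀ a₁ + 1) := by
    rw [sg, map_sub, LinearMap.sub_apply, ← hassoc]
    rw [h₁.2.2.1.1.2.1]
    simp [hn₁]; ring
  rw [sg, map_sub, hassoc, mul_eq_sg (mul := mul) a₀ a₁]
  simp only [map_add, map_smul, LinearMap.add_apply, LinearMap.smul_apply, smul_eq_mul,
    form_invol h₀, h1, h2]
  ring

/-- The product of `a₀` with the second sigma and the square of the first sigma. -/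
theorem third_products (hV : IsMajoranaAmbient mul B) (h₀ : IsMajoranaPair mul B μ₀ a₀)
    (h₁ : IsMajoranaPair mul B μ₁ a₁) (hn₀ : B a₀ a₀ = 1) (hn₁ : B a₁ a₁ = 1) (α γ : ℝ)
    (hα : B a₀ a₁ = α) (hγ : B a₁ (μ₀ a₁) = γ) :
    mul a₀ (sg mul a₁ (μ₀ a₁)) = (32 / 3 * α - 19 / 48) • sg mul a₀ a₁ +
      (7 / 96 : ℝ) • sg mul a₀ (μ₁ a₀) + (α / 6 - 19 / 3072) • (a₁ + μ₀ a₁) +
      (7 / 6144 : ℝ) • (μ₁ a₀ + μ₀ (μ₁ a₀)) +
      (-32 / 3 * α ^ 2 + 5 / 3 * α - γ / 24 - 127 / 3072) • a₀ ∧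
    mul (sg mul a₀ a₁) (sg mul a₀ a₁) = (-5 / 12 * α - 13 / 1536) • sg mul a₀ a₁ -
      (7 / 1536 : ℝ) • sg mul a₀ (μ₁ a₀) + (7 / 2048 : ℝ) • sg mul a₁ (μ₀ a₁) +
      (49 / 768 * α - 245 / 196608) • (a₁ + μ₀ a₁) +
      (49 / 196608 : ℝ) • (μ₁ a₀ + μ₀ (μ₁ a₀)) +
      (7 / 6 * α ^ 2 - 7 / 384 * α + 7 / 1536 * γ - 7 / 98304) • a₀ := by
  set A : V := (1 / 2 : ℝ) • (a₁ + μ₀ a₁) with hA
  have hfx : μ₀ A = A := by rw [hA, map_smul, map_add, invol_sq h₀, add_comm]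
  obtain ⟨hcomm, hsymm, -, hassoc, -⟩ := id hV
  have haa : mul a₀ a₀ = a₀ := h₀.2.2.1.1.2.1
  have hbb : mul a₁ a₁ = a₁ := h₁.2.2.1.1.2.1
  have hcc : mul (μ₀ a₁) (μ₀ a₁) = μ₀ a₁ := by rw [← h₀.1, hbb]
  have p01 := mul_eq_sg (mul := mul) a₀ a₁
  have p0m : mul a₀ (μ₀ a₁) = sg mul a₀ a₁ + (1 / 32 : ℝ) • (a₀ + μ₀ a₁) := by
    rw [mul_eq_sg, sg_invol h₀]
  have p02 := mul_eq_sg (mul := mul) a₀ (μ₁ a₀)
  have p02' : mul a₀ (μ₀ (μ₁ a₀)) =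
      sg mul a₀ (μ₁ a₀) + (1 / 32 : ℝ) • (a₀ + μ₀ (μ₁ a₀)) := by
    rw [mul_eq_sg, sg_invol h₀]
  have p1m := mul_eq_sg (mul := mul) a₁ (μ₀ a₁)
  have p0s := mul_sg hV h₀ hn₀ a₁
  obtain ⟨p1s, pms⟩ := mul_sg_left hV h₀ h₁ hn₁
  rw [hα] at p0s p1s pms
  have hA0 : mul a₀ A = sg mul a₀ a₁ + (1 / 32 : ℝ) • (a₀ + A) := by
    rw [hA, map_smul, map_add, p01, p0m]; module
  have hBA : B A a₀ = α := by
    rw [hsymm, hA, map_smul, map_add, form_invol h₀, hα, smul_eq_mul]; ring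
  set r : V := (4 : ℝ) • (sg mul a₀ a₁ + (1 / 32 : ℝ) • (a₀ + A) - α • a₀) with hr
  set q : V := A - α • a₀ - r with hq
  obtain ⟨-, hqq, hqr, hrr, hBr⟩ :=
    fusion_fixed hV h₀ hn₀ hfx hA0 (r := r) (q := q) (by rw [hBA]) (by rw [hBA])
  -- the norm of `r`
  have hAA : B A (mul a₀ A) =
      1 / 2 * (B a₀ a₁ + B a₀ (sg mul a₁ (μ₀ a₁)) + 1 / 16 * B a₀ a₁) := by
    rw [hcomm a₀ A, hassoc, hsymm, hA]
    simp only [map_add, map_smul, LinearMap.add_apply, LinearMap.smul_apply, smul_eq_mul, hbb, hcc,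
      p1m, hcomm (μ₀ a₁) a₁, form_invol h₀]
    ring
  have hnA : B A A = (1 + γ) / 2 := by
    have hmm : B (μ₀ a₁) (μ₀ a₁) = 1 := by rw [h₀.2.1, hn₁]
    rw [hA]
    simp only [map_add, map_smul, LinearMap.add_apply, LinearMap.smul_apply, smul_eq_mul, hn₁, hmm,
      hsymm (μ₀ a₁) a₁, hγ]
    ring
  have hrv : B r r = 4 * (B A (mul a₀ A) - α ^ 2) := by
    rw [hBr, hr, hA0]
    simp only [map_add, map_sub, map_smul, smul_eq_mul, hBA]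
    ring
  rw [hAA, form_three hV h₀ h₁ hn₁, hα, hγ] at hrv
  rw [hrv] at hrr
  clear hrv hBr hnA hAA
  generalize hs : sg mul a₀ a₁ = s at *
  generalize he : sg mul a₀ (μ₁ a₀) = e at *
  generalize ho : sg mul a₁ (μ₀ a₁) = o at *
  generalize hm : μ₀ a₁ = m at *
  generalize hc : μ₀ (μ₁ a₀) = c at *
  generalize hd : μ₁ a₀ = d at *
  have q1m : mul m a₁ = o + (1 / 32 : ℝ) • (a₁ + m) := by rw [hcomm, p1m]
  have q10 : mul a₁ a₀ = s + (1 / 32 : ℝ) • (a₀ + a₁) := by rw [hcomm, p01]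
  have qm0 : mul m a₀ = s + (1 / 32 : ℝ) • (a₀ + m) := by rw [hcomm, p0m]
  have qs0 := (hcomm s a₀).trans p0s
  have qs1 := (hcomm s a₁).trans p1s
  have qsm := (hcomm s m).trans pms
  -- the difference of the two squares
  have hdiff : mul a₀ (mul q q - mul r r) =
      -((1 / 4 * (4 * (1 / 2 * (α + (α * (1 - 1 / 16) - 1 / 32 + 1 / 32 * γ) + 1 / 16 * α) -
        α ^ 2))) • a₀) := by
    rw [map_sub, hqq, hrr, zero_sub]
  have ho0 : mul a₀ o = (32 / 3 * α - 19 / 48) • s +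
      (7 / 96 : ℝ) • e + (α / 6 - 19 / 3072) • (a₁ + m) + (7 / 6144 : ℝ) • (d + c) +
      (-32 / 3 * α ^ 2 + 5 / 3 * α - γ / 24 - 127 / 3072) • a₀ := by
    rw [hq, hr, hA] at hdiff
    simp only [map_add, map_sub, map_smul, LinearMap.add_apply, LinearMap.sub_apply,
      LinearMap.smul_apply, haa, hbb, hcc, p01, p0m, p02, p02', p1m, p0s, p1s, pms, q1m, q10, qm0,
      qs0, qs1, qsm] at hdiff
    linear_combination (norm := module) (8 / 3 : ℝ) • hdiff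
  refine ⟨ho0, ?_⟩
  have hsum : mul a₀ (mul q q + mul q r) = (1 / 4 : ℝ) • mul q r := by
    rw [map_add, hqq, hqr, zero_add]
  rw [hq, hr, hA] at hsum
  simp only [map_add, map_sub, map_smul, LinearMap.add_apply, LinearMap.sub_apply,
    LinearMap.smul_apply, haa, hbb, hcc, p01, p0m, p02, p02', p1m, p0s, p1s, pms, q1m, q10, qm0,
    qs0, qs1, qsm, ho0] at hsum
  linear_combination (norm := module) (1 / 4 : ℝ) • hsum

end Cfsg.Agent.Axial28
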