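import Mathlib
import Cfsg.Agent.Axial28.SakumaProd

/-! The recurrence for the axes in a two-generated algebra, and the inner products. -/

set_option autoImplicit false

namespace Cfsg.Agent.Axial28
open Cfsg.Axial

variable {V : Type*} [AddCommGroup V] [Module ℝ V] {mul : V →ₗ[ℝ] V →ₗ[ℝ] V}
  {B : LinearMap.BilinForm ℝ V} {μ₀ μ₁ : V ≃ₗ[ℝ] V} {a₀ a₁ : V}

theorem recurrence (hV : IsMajoranaAmbient mul B) (h₀ : IsMajoranaPair mul B μ₀ a₀)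
    (h₁ : IsMajoranaPair mul B μ₁ a₁) (hn₀ : B a₀ a₀ = 1) (hn₁ : B a₁ a₁ = 1) (α β γ : ℝ)
    (hα : B a₀ a₁ = α) (hβ : B a₀ (μ₁ a₀) = β) (hγ : B a₁ (μ₀ a₁) = γ) :
    μ₁ (μ₀ a₁) = μ₀ (μ₁ a₀) + (256 * α - 6) • (μ₀ a₁ - μ₁ a₀) +
      (32768 / 7 * α ^ 2 - 2304 / 7 * α + 128 / 7 * γ + 33 / 7) • a₀ -
      (32768 / 7 * α ^ 2 - 2304 / 7 * α + 128 / 7 * β + 33 / 7) • a₁ +
      (32 : ℝ) • (sg mul a₁ (μ₀ a₁) - sg mul a₀ (μ₁ a₀)) := by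
  have h := (third_products hV h₀ h₁ hn₀ hn₁ α γ hα hγ).2
  have h' := (third_products hV h₁ h₀ hn₁ hn₀ α β (by rw [hV.2.1, hα]) hβ).2
  rw [sg_comm hV a₁ a₀] at h'
  linear_combination (norm := module) (196608 / 49 : ℝ) • (h - h')

/-- The nine possible pairs of inner products, and the inner products that show periodicity. -/
theorem scalars (hV : IsMajoranaAmbient mul B) (h₀ : IsMajoranaPair mul B μ₀ a₀)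
    (h₁ : IsMajoranaPair mul B μ₁ a₁) (hn₀ : B a₀ a₀ = 1) (hn₁ : B a₁ a₁ = 1) :
    B a₀ a₁ = 1 ∨ B a₀ (μ₁ a₀) = 1 ∨ B a₀ (μ₁ (μ₀ a₁)) = 1 ∨
      B (μ₁ a₀) (μ₀ (μ₁ a₀)) = 1 ∨ B (μ₁ (μ₀ a₁)) (μ₀ (μ₁ a₀)) = 1 ∨
      B (μ₁ (μ₀ a₁)) (μ₀ (μ₁ (μ₀ a₁))) = 1 := by
  obtain ⟨hcomm, hsymm, -, hassoc, -⟩ := id hV
  obtain ⟨α, hα⟩ : ∃ x, B a₀ a₁ = x := ⟨_, rfl⟩
  obtain ⟨β, hβ⟩ : ∃ x, B a₀ (μ₁ a₀) = x := ⟨_, rfl⟩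
  obtain ⟨γ, hγ⟩ : ∃ x, B a₁ (μ₀ a₁) = x := ⟨_, rfl⟩
  obtain ⟨m3, hm3⟩ : ∃ x, B a₀ (μ₁ (μ₀ a₁)) = x := ⟨_, rfl⟩
  obtain ⟨m4, hm4⟩ : ∃ x, B (μ₁ a₀) (μ₀ (μ₁ a₀)) = x := ⟨_, rfl⟩
  obtain ⟨n4, hn4⟩ : ∃ x, B (μ₀ a₁) (μ₁ (μ₀ a₁)) = x := ⟨_, rfl⟩
  obtain ⟨m5, hm5⟩ : ∃ x, B (μ₁ (μ₀ a₁)) (μ₀ (μ₁ a₀)) = x := ⟨_, rfl⟩
  obtain ⟨m6, hm6⟩ : ∃ x, B (μ₁ (μ₀ a₁)) (μ₀ (μ₁ (μ₀ a₁))) = x := ⟨_, rfl⟩
  obtain ⟨u0, u1⟩ := And.intro (self_fixed h₀) (self_fixed h₁)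
  have i0 := invol_sq h₀
  have i1 := invol_sq h₁
  have b0 := h₀.2.1
  have b1 := h₁.2.1
  -- invariance of the sigmas
  have s0 : μ₀ (sg mul a₀ a₁) = sg mul a₀ a₁ := invol_sg h₀ _
  have s1 : μ₁ (sg mul a₀ a₁) = sg mul a₀ a₁ := by rw [sg_comm hV a₀ a₁, invol_sg h₁]
  have e0 : μ₀ (sg mul a₀ (μ₁ a₀)) = sg mul a₀ (μ₁ a₀) := invol_sg h₀ _
  have e1 : μ₁ (sg mul a₀ (μ₁ a₀)) = sg mul a₀ (μ₁ a₀) := by
    rw [sg_image μ₁ h₁.1, i1, sg_comm hV]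
  have o1 : μ₁ (sg mul a₁ (μ₀ a₁)) = sg mul a₁ (μ₀ a₁) := invol_sg h₁ _
  have o0 : μ₀ (sg mul a₁ (μ₀ a₁)) = sg mul a₁ (μ₀ a₁) := by
    rw [sg_image μ₀ h₀.1, i0, sg_comm hV]
  -- inner products with `a₀` and `a₁`
  have f0e : B a₀ (sg mul a₀ (μ₁ a₀)) = β - 1 / 32 * (1 + β) := by
    rw [sg, map_sub, hassoc, h₀.2.2.1.1.2.1]
    simp [hβ, hn₀]; ring
  have f0s : B a₀ (sg mul a₀ a₁) = α - 1 / 32 * (1 + α) := by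
    rw [sg, map_sub, hassoc, h₀.2.2.1.1.2.1]
    simp [hα, hn₀]; ring
  have f1o : B a₁ (sg mul a₁ (μ₀ a₁)) = γ - 1 / 32 * (1 + γ) := by
    rw [sg, map_sub, hassoc, h₁.2.2.1.1.2.1]
    simp [hγ, hn₁]; ring
  have f1s : B a₁ (sg mul a₀ a₁) = α - 1 / 32 * (1 + α) := by
    rw [sg_comm hV, sg, map_sub, hassoc, h₁.2.2.1.1.2.1]
    simp [hn₁, hsymm a₁ a₀, hα]; ring
  have f0o := form_three hV h₀ h₁ hn₁
  have f1e := form_three hV h₁ h₀ hn₀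
  rw [hα, hγ] at f0o
  rw [hsymm a₁ a₀, hα, hβ] at f1e
  -- invariant vectors
  have moved : ∀ v, μ₀ v = v → μ₁ v = v → B (μ₀ a₁) v = B a₁ v ∧ B (μ₁ a₀) v = B a₀ v ∧
      B (μ₀ (μ₁ a₀)) v = B a₀ v ∧ B (μ₁ (μ₀ a₁)) v = B a₁ v ∧
      B (μ₀ (μ₁ (μ₀ a₁))) v = B a₁ v := by
    intro v h h'
    have k0 : ∀ x, B (μ₀ x) v = B x v := fun x => by conv_lhs => rw [← h]; rw [b0]
    have k1 : ∀ x, B (μ₁ x) v = B x v := fun x => by conv_lhs => rw [← h']; rw [b1]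
    simp [k0, k1]
  obtain ⟨fms, fds, fcs, fts, fgs⟩ := moved _ s0 s1
  obtain ⟨fme, fde, fce, fte, fge⟩ := moved _ e0 e1
  obtain ⟨fmo, fdo, fco, fto, fgo⟩ := moved _ o0 o1
  -- inner products of axes
  have a0m : B a₀ (μ₀ a₁) = α := by rw [form_invol h₀, hα]
  have a0c : B a₀ (μ₀ (μ₁ a₀)) = β := by rw [form_invol h₀, hβ]
  have a1d : B a₁ (μ₁ a₀) = α := by rw [form_invol h₁, hsymm, hα]
  have a1t : B a₁ (μ₁ (μ₀ a₁)) = γ := by rw [form_invol h₁, hγ]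
  have a1c : B a₁ (μ₀ (μ₁ a₀)) = m3 := by
    rw [← hm3, ← b0, i0, ← b1, i1, hsymm]
  have mm : B (μ₀ a₁) (μ₀ a₁) = 1 := by rw [b0, hn₁]
  have mc : B (μ₀ a₁) (μ₀ (μ₁ a₀)) = α := by rw [b0, a1d]
  have md : B (μ₀ a₁) (μ₁ a₀) = m3 := by rw [← a1c, ← b0, i0]
  have dd : B (μ₁ a₀) (μ₁ a₀) = 1 := by rw [b1, hn₀]
  have cc : B (μ₀ (μ₁ a₀)) (μ₀ (μ₁ a₀)) = 1 := by rw [b0, dd]
  have td : B (μ₁ (μ₀ a₁)) (μ₁ a₀) = α := by rw [b1, hsymm, a0m]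
  have gc : B (μ₀ (μ₁ (μ₀ a₁))) (μ₀ (μ₁ a₀)) = α := by rw [b0, td]
  have gm : B (μ₀ (μ₁ (μ₀ a₁))) (μ₀ a₁) = γ := by rw [b0, hsymm, a1t]
  have gd : B (μ₀ (μ₁ (μ₀ a₁))) (μ₁ a₀) = m5 := by rw [← hm5, ← b0, i0]
  have g0 : B (μ₀ (μ₁ (μ₀ a₁))) a₀ = m3 := by rw [hsymm, form_invol h₀, hm3]
  have g1 : B (μ₀ (μ₁ (μ₀ a₁))) a₁ = n4 := by rw [← b0, i0, hsymm, hn4]
  have R := recurrence hV h₀ h₁ hn₀ hn₁ α β γ hα hβ hγ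
  have P3 := (third_products hV h₀ h₁ hn₀ hn₁ α γ hα hγ).1
  have P3' := (third_products hV h₁ h₀ hn₁ hn₀ α β (by rw [hsymm, hα]) hβ).1
  rw [sg_comm hV a₁ a₀] at P3'
  have P2 := mul_sg hV h₀ hn₀ (μ₁ a₀)
  rw [hβ] at P2
  -- the two quadratic parameters agree
  have hγβ : γ = β := by
    have h := hassoc a₀ a₀ (sg mul a₁ (μ₀ a₁))
    rw [P3, h₀.2.2.1.1.2.1] at h
    simp only [map_add, map_smul, smul_eq_mul, f0s, f0e, f0o, hα, hβ, a0m, a0c, hn₀] at h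
    linear_combination (-96 / 7 : ℝ) * h
  subst hγβ
  have hR0 := congrArg (B a₀) R
  simp only [map_add, map_sub, map_smul, smul_eq_mul, f0e, f0o, hα, hβ, hm3, a0m, a0c, hn₀] at hR0
  have hRd := congrArg (B (μ₁ a₀)) R
  simp only [map_add, map_sub, map_smul, smul_eq_mul, fde, fdo, f0e, f0o, hm4,
    hsymm (μ₁ a₀) (μ₁ (μ₀ a₁)), td, hsymm (μ₁ a₀) (μ₀ a₁), md, dd, hsymm (μ₁ a₀) a₀, hβ,
    hsymm (μ₁ a₀) a₁, a1d] at hRd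
  have hRm := congrArg (B (μ₀ a₁)) R
  simp only [map_add, map_sub, map_smul, smul_eq_mul, fme, fmo, f1e, f1o, hn4, mc, mm, md,
    hsymm (μ₀ a₁) a₀, a0m, hsymm (μ₀ a₁) a₁, hγ] at hRm
  have hRc := congrArg (B (μ₀ (μ₁ a₀))) R
  simp only [map_add, map_sub, map_smul, smul_eq_mul, fce, fco, f0e, f0o, cc,
    hsymm (μ₀ (μ₁ a₀)) (μ₁ (μ₀ a₁)), hm5, hsymm (μ₀ (μ₁ a₀)) (μ₀ a₁), mc,
    hsymm (μ₀ (μ₁ a₀)) (μ₁ a₀), hm4, hsymm (μ₀ (μ₁ a₀)) a₀, a0c, hsymm (μ₀ (μ₁ a₀)) a₁, a1c] at hRc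
  have hRg := congrArg (B (μ₀ (μ₁ (μ₀ a₁)))) R
  simp only [map_add, map_sub, map_smul, smul_eq_mul, fge, fgo, f1e, f1o,
    hsymm (μ₀ (μ₁ (μ₀ a₁))) (μ₁ (μ₀ a₁)), hm6, gc, gm, gd, g0, g1] at hRg
  -- the first equation
  set Y := B (sg mul a₀ (μ₁ a₀)) (sg mul a₀ (μ₁ a₀)) with hY
  set Z := B (sg mul a₀ (μ₁ a₀)) (sg mul a₁ (μ₀ a₁)) with hZ
  have hd0 : mul (μ₁ a₀) a₀ = sg mul a₀ (μ₁ a₀) + (1 / 32 : ℝ) • (a₀ + μ₁ a₀) := by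
    rw [hcomm, mul_eq_sg]
  have hE1 := hassoc (μ₁ a₀) a₀ (sg mul a₁ (μ₀ a₁))
  rw [P3, hd0] at hE1
  simp only [map_add, map_smul, LinearMap.add_apply, LinearMap.smul_apply, smul_eq_mul, ← hZ, fds,
    fde, fdo, f0s, f0e, f0o, dd, hm4, hsymm (μ₁ a₀) (μ₀ a₁), md, hsymm (μ₁ a₀) a₀, hβ,
    hsymm (μ₁ a₀) a₁, a1d] at hE1
  have hE2 := hassoc (μ₁ a₀) a₀ (sg mul a₀ (μ₁ a₀))
  rw [P2, hd0] at hE2
  simp only [map_add, map_smul, LinearMap.add_apply, LinearMap.smul_apply, smul_eq_mul, ← hY,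
    fde, f0e, dd, hm4, hsymm (μ₁ a₀) a₀, hβ] at hE2
  have hE3 := congrArg (B (sg mul a₀ (μ₁ a₀))) R
  simp only [map_add, map_sub, map_smul, smul_eq_mul, ← hY, ← hZ,
    hsymm (sg mul a₀ (μ₁ a₀)) (μ₁ (μ₀ a₁)), hsymm (sg mul a₀ (μ₁ a₀)) (μ₀ (μ₁ a₀)),
    hsymm (sg mul a₀ (μ₁ a₀)) (μ₀ a₁), hsymm (sg mul a₀ (μ₁ a₀)) (μ₁ a₀),
    hsymm (sg mul a₀ (μ₁ a₀)) a₀, hsymm (sg mul a₀ (μ₁ a₀)) a₁, fte, fce, fme, fde, f0e, f1e] at hE3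
  -- the second equation
  have hrot : B (μ₁ (μ₀ a₁)) (mul a₀ (sg mul a₀ (μ₁ a₀))) =
      B (μ₀ (μ₁ a₀)) (mul a₁ (sg mul a₀ (μ₁ a₀))) := by
    rw [hassoc, hassoc, hcomm _ a₀, hcomm _ a₁]
    conv_rhs => rw [← b0, ← b1]
    simp only [h₀.1, h₁.1, i0, i1, e0, e1]
    rw [hcomm]
  rw [P2, P3'] at hrot
  simp only [map_add, map_smul, smul_eq_mul, fte, fcs, fco, f0s, f1e, f0o,
    hsymm (μ₁ (μ₀ a₁)) a₀, hm3, td, hm5, hsymm (μ₀ (μ₁ a₀)) a₀, a0c,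
    hsymm (μ₀ (μ₁ a₀)) (μ₁ a₀), hm4, hsymm (μ₀ (μ₁ a₀)) (μ₀ a₁), mc,
    hsymm (μ₀ (μ₁ a₀)) (μ₁ (μ₀ a₁)), hsymm (μ₀ (μ₁ a₀)) a₁, a1c] at hrot
  have r3 : m3 = -32768 / 7 * α ^ 3 + 36864 / 7 * α ^ 2 - 1920 / 7 * α * γ - 2169 / 7 * α
      - 33 / 7 * γ + 33 / 7 := by linear_combination hR0
  have r4 : m4 = 8388608 / 7 * α ^ 4 - 9601024 / 7 * α ^ 3 + 65536 * α ^ 2 * γ + 110592 * α ^ 2
      - 640 / 7 * α * γ - 19840 / 7 * α - 128 / 7 * γ ^ 2 - 3 * γ + 156 / 7 := by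
    subst r3; linear_combination -hRd
  have r4' : n4 = 8388608 / 7 * α ^ 4 - 9601024 / 7 * α ^ 3 + 65536 * α ^ 2 * γ + 110592 * α ^ 2
      - 640 / 7 * α * γ - 19840 / 7 * α - 128 / 7 * γ ^ 2 - 3 * γ + 156 / 7 := by
    subst r3; linear_combination hRm
  subst r3 r4 r4'
  subst hRc
  have F1 : γ ^ 2 + 16384 * α ^ 4 - 18176 * α ^ 3 + 320 * α ^ 2 * γ + 1440 * α ^ 2
      + 139 / 2 * α * γ - 75 / 2 * α - 167 / 128 * γ + 39 / 128 = 0 := by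
    linear_combination (7 / 48 : ℝ) * (hE3 - 32 * (hE1 - hE2))
  have F2 : -6291456 / 7 * α ^ 5 + 1056768 * α ^ 4 - 368640 / 7 * α ^ 3 * γ - 805248 / 7 * α ^ 3
      + 39072 / 7 * α ^ 2 * γ + 32400 / 7 * α ^ 2 - 192 * α * γ ^ 2 - 921 / 4 * α * γ
      - 2193 / 28 * α - 27 / 7 * γ ^ 2 + 6093 / 1792 * γ + 117 / 256 = 0 := by
    linear_combination hrot
  have hlin : (-2925 / 1792 - 5955 / 28 * α + 20160 * α ^ 2 + 61440 / 7 * α ^ 3) * γ +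
      (2925 / 1792 - 4605 / 28 * α + 20880 / 7 * α ^ 2 + 639360 / 7 * α ^ 3
        - 16588800 / 7 * α ^ 4 + 15728640 / 7 * α ^ 5) = 0 := by
    linear_combination F2 - (-192 * α - 27 / 7) * F1
  have hprod : (-15461882265600 : ℝ) * (α * (α - 1) * (α - 1 / 8) * (α - 13 / 256) *
      ((α - 1 / 64) * (α - 1 / 64)) * (α - 1 / 32) * (α - 3 / 128) * (α - 5 / 256)) = 0 := by
    linear_combination (-2925 / 1792 - 5955 / 28 * α + 20160 * α ^ 2 + 61440 / 7 * α ^ 3) ^ 2 * F1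
      - ((-2925 / 1792 - 5955 / 28 * α + 20160 * α ^ 2 + 61440 / 7 * α ^ 3) *
          (γ + 320 * α ^ 2 + 139 / 2 * α - 167 / 128) -
        (2925 / 1792 - 4605 / 28 * α + 20880 / 7 * α ^ 2 + 639360 / 7 * α ^ 3
          - 16588800 / 7 * α ^ 4 + 15728640 / 7 * α ^ 5)) * hlin
  simp only [mul_eq_zero, sub_eq_zero, or_self, OfNat.ofNat_ne_zero, neg_eq_zero, false_or] at hprod
  rcases hprod with ((((((h | h) | h) | h) | h) | h) | h) | h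
  all_goals subst h
  · exact Or.inr (Or.inl (by rw [hβ]; linarith))
  · exact Or.inl hα
  · exact Or.inr (Or.inl (by rw [hβ]; linarith))
  · have : γ = 13 / 256 := by linarith
    exact Or.inr (Or.inr (Or.inl (by rw [hm3, this]; norm_num)))
  · have h2 : (γ - 1 / 64) * (γ - 1 / 8) = 0 := by linear_combination F1
    rcases mul_eq_zero.1 h2 with h2 | h2
    · rw [sub_eq_zero] at h2
      exact Or.inr (Or.inr (Or.inl (by rw [hm3, h2]; norm_num)))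
    · rw [sub_eq_zero] at h2
      exact Or.inr (Or.inr (Or.inr (Or.inl (by rw [hm4, h2]; norm_num))))
  · have : γ = 0 := by linarith
    exact Or.inr (Or.inr (Or.inr (Or.inl (by rw [hm4, this]; norm_num))))
  · have : γ = 3 / 128 := by linarith
    exact Or.inr (Or.inr (Or.inr (Or.inr (Or.inl (by rw [hm5, this]; norm_num)))))
  · have : γ = 13 / 256 := by linarith
    refine Or.inr (Or.inr (Or.inr (Or.inr (Or.inr ?_))))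
    rw [hm6, hRg, this]; norm_num

end Cfsg.Agent.Axial28
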