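import Mathlib
import Cfsg.Agent.Axial28.Basic

/-! Two commuting Majorana involutions. -/

set_option autoImplicit false

namespace Cfsg.Agent.Axial28
open Cfsg.Axial

variable {V : Type*} [AddCommGroup V] [Module ℝ V] {mul : V →ₗ[ℝ] V →ₗ[ℝ] V}
  {B : LinearMap.BilinForm ℝ V}

theorem two_axes (hV : IsMajoranaAmbient mul B) (μ₀ μ₁ : V ≃ₗ[ℝ] V) (a₀ a₁ : V)
    (h₀ : IsMajoranaPair mul B μ₀ a₀) (h₁ : IsMajoranaPair mul B μ₁ a₁)
    (hu₀ : ∀ a : V, IsMajoranaPair mul B μ₀ a → a = a₀)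
    (hu₁ : ∀ a : V, IsMajoranaPair mul B μ₁ a → a = a₁) (hn₀ : B a₀ a₀ = 1) (hn₁ : B a₁ a₁ = 1)
    (hc : μ₀ * μ₁ = μ₁ * μ₀) (hne : a₀ ≠ a₁) :
    (B a₀ a₁ = 0 ∧ mul a₀ a₁ = 0) ∨ (B a₀ a₁ = 1 / 8 ∧
      mul (a₀ + a₁ - (8 : ℝ) • mul a₀ a₁) (a₀ + a₁ - (8 : ℝ) • mul a₀ a₁) = a₀ + a₁ - (8 : ℝ) • mul a₀ a₁ ∧
      mul a₀ (a₀ + a₁ - (8 : ℝ) • mul a₀ a₁) = (1 / 8 : ℝ) • (a₀ + (a₀ + a₁ - (8 : ℝ) • mul a₀ a₁) - a₁) ∧
      mul a₁ (a₀ + a₁ - (8 : ℝ) • mul a₀ a₁) = (1 / 8 : ℝ) • (a₁ + (a₀ + a₁ - (8 : ℝ) • mul a₀ a₁) - a₀)) := by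
  have hfix10 : μ₁ a₀ = a₀ := hu₀ _ (pair_conj μ₁ h₁.1 h₀ h₁.2.1 fun v => LinearEquiv.congr_fun hc v)
  have hfix01 : μ₀ a₁ = a₁ := hu₁ _ (pair_conj μ₀ h₀.1 h₁ h₀.2.1 fun v => (LinearEquiv.congr_fun hc v).symm)
  obtain ⟨u, w, hu, hw, e0⟩ := split_fixed hV h₁ hn₁ hfix10
  obtain ⟨u', w', hu', hw', e1⟩ := split_fixed hV h₀ hn₀ hfix01
  obtain ⟨hcomm, hsymm, hpos, hassoc, -⟩ := hV
  obtain ⟨-, -, ⟨⟨-, haa, -, hfus⟩, hprim⟩, -, -⟩ := h₁
  obtain ⟨-, -, ⟨⟨-, haa0, -, -⟩, -⟩, -, -⟩ := h₀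
  set α := B a₀ a₁ with hα
  have hsy : B a₁ a₀ = α := hsymm _ _
  rw [hsy] at e1
  -- products with the first axis
  have hp : mul a₀ a₁ = α • a₁ + (1 / 4 : ℝ) • w := by
    rw [hcomm a₀ a₁]
    conv_lhs => rw [← e0]
    rw [map_add, map_add, map_smul, haa, hu, hw, add_zero]
  have hp' : mul a₀ a₁ = α • a₀ + (1 / 4 : ℝ) • w' := by
    conv_lhs => rw [← e1]
    rw [map_add, map_add, map_smul, haa0, hu', hw', add_zero]
  have hw'e : w' = w + (4 * α) • a₁ - (4 * α) • a₀ := by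
    calc w' = (4 : ℝ) • ((α • a₀ + (1 / 4 : ℝ) • w') - α • a₀) := by module
      _ = (4 : ℝ) • ((α • a₁ + (1 / 4 : ℝ) • w) - α • a₀) := by rw [← hp', hp]
      _ = _ := by module
  -- fusion
  have law00 : monsterLaw (1 / 4 : ℝ) (1 / 32) 0 0 = {0} := by simp [monsterLaw]
  have law04 : monsterLaw (1 / 4 : ℝ) (1 / 32) 0 (1 / 4) = {1 / 4} := by norm_num [monsterLaw]
  have law44 : monsterLaw (1 / 4 : ℝ) (1 / 32) (1 / 4) (1 / 4) = {1, 0} := by norm_num [monsterLaw]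
  have hS0 : (0 : ℝ) ∈ majoranaSpectrum := by simp [majoranaSpectrum]
  have hS4 : (1 / 4 : ℝ) ∈ majoranaSpectrum := by simp [majoranaSpectrum]
  have hu2 : mul a₁ (mul u u) = 0 := by
    have := hfus 0 hS0 0 hS0 u (mem_eigen.2 (by rw [hu, zero_smul])) u (mem_eigen.2 (by rw [hu, zero_smul]))
    rw [law00, mem_eigenSum_single, mem_eigen, zero_smul] at this
    exact this
  have huw : mul a₁ (mul u w) = (1 / 4 : ℝ) • mul u w := by
    have := hfus 0 hS0 _ hS4 u (mem_eigen.2 (by rw [hu, zero_smul])) w (mem_eigen.2 hw)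
    rwa [law04, mem_eigenSum_single, mem_eigen] at this
  obtain ⟨β, z, hz, hw2⟩ : ∃ β : ℝ, ∃ z, mul a₁ z = 0 ∧ β • a₁ + z = mul w w := by
    have := hfus _ hS4 _ hS4 w (mem_eigen.2 hw) w (mem_eigen.2 hw)
    rw [law44, mem_eigenSum_pair] at this
    obtain ⟨p, hp1, z, hz, h⟩ := this
    rw [hprim, Submodule.mem_span_singleton] at hp1
    obtain ⟨β, rfl⟩ := hp1
    exact ⟨β, z, by rw [mem_eigen.1 hz, zero_smul], h⟩
  have hwu : mul w u = mul u w := hcomm _ _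
  have hxa : ∀ x, mul x a₁ = mul a₁ x := fun x => hcomm _ _
  have hsq : (α ^ 2 + β - α) • a₁ + (mul u u + z - u) +
      ((α / 2) • w + (2 : ℝ) • mul u w - w) = 0 := by
    have h := haa0
    rw [← e0] at h
    simp only [map_add, map_smul, LinearMap.add_apply, LinearMap.smul_apply, haa, hxa u, hxa w, hu, hw,
      hwu, ← hw2, smul_zero, add_zero, zero_add, smul_smul] at h
    rw [← sub_eq_zero] at h
    rw [← h]
    module
  obtain ⟨q1, q2, q3⟩ := indep_three (a := a₁) (by rw [map_smul, haa])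
    (by rw [map_sub, map_add, hu2, hz, hu]; simp)
    (by rw [map_sub, map_add, map_smul, map_smul, hw, huw]; module) hsq
  have huw' : mul u w = (1 / 2 - α / 4) • w := by
    have e := congrArg (fun x => (1 / 2 : ℝ) • x) q3
    simp only [smul_zero] at e
    rw [← sub_eq_zero, ← e]; module
  have hfour : mul a₀ w = β • a₁ + z + (1 / 2 : ℝ) • w := by
    conv_lhs => rw [← e0]
    simp only [map_add, map_smul, LinearMap.add_apply, LinearMap.smul_apply, hw, huw', ← hw2]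
    module
  have hsq2 : (β + 4 * α ^ 2 - α - 3 * α ^ 2) • a₁ + (z - (3 * α) • u) +
      (1 / 4 - 2 * α) • w = 0 := by
    have h := hw'
    rw [hw'e, map_sub, map_add, map_smul, map_smul, haa0, hfour, hp] at h
    rw [← sub_eq_zero] at h
    conv at h => lhs; rw [show (4 * α) • a₀ = (4 * α) • (α • a₁ + u + w) by rw [e0]]
    rw [← h]
    module
  obtain ⟨r1, r2, r3⟩ := indep_three (a := a₁) (by rw [map_smul, haa])
    (by rw [map_sub, map_smul, hu, hz]; simp) (by rw [map_smul, hw, smul_comm]) hsq2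
  have ha1 : a₁ ≠ 0 := fun e => by simp [e] at hn₁
  have hβ : β = α - α ^ 2 := by
    have := (smul_eq_zero.1 q1).resolve_right ha1
    linarith
  by_cases hw0 : w = 0
  · left
    have hβ0 : β = 0 := by
      have h : β • a₁ + z + 0 = 0 := by rw [hw2, hw0]; simp
      have := (indep_three (a := a₁) (r := 0) (by rw [map_smul, haa]) hz (by simp) h).1
      exact (smul_eq_zero.1 this).resolve_right ha1
    have hα01 : α * (1 - α) = 0 := by rw [hβ] at hβ0; linarith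
    rcases mul_eq_zero.1 hα01 with h | h
    · exact ⟨h, by rw [hp, h, hw0]; simp⟩
    · exfalso
      have hα1 : α = 1 := by linarith
      have hlt := hpos (a₀ - a₁) (sub_ne_zero.2 hne)
      simp only [map_sub, LinearMap.sub_apply, hn₀, hn₁, hsy, ← hα, hα1] at hlt
      norm_num at hlt
  · right
    have hα8 : α = 1 / 8 := by
      have := (smul_eq_zero.1 r3).resolve_right hw0
      linarith
    have hz' : z = (3 / 8 : ℝ) • u := by rw [sub_eq_zero.1 r2, hα8]; norm_num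
    have hu2' : mul u u = (5 / 8 : ℝ) • u := by
      have h := q2
      rw [hz'] at h
      rw [← sub_eq_zero, ← h]; module
    have hb : β = 7 / 64 := by rw [hβ, hα8]; norm_num
    have hp2 : a₀ + a₁ - (8 : ℝ) • mul a₀ a₁ = (1 / 8 : ℝ) • a₁ + u - w := by
      rw [hp, ← e0, hα8]; module
    rw [hp2]
    refine ⟨hα8, ?_, ?_, ?_⟩
    · simp only [map_add, map_sub, map_smul, LinearMap.add_apply, LinearMap.sub_apply,
        LinearMap.smul_apply, haa, hxa u, hxa w, hu, hw, hwu, huw', hu2', ← hw2, hz', hb, hα8]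
      module
    · conv_lhs => rw [← e0]
      conv_rhs => rw [← e0]
      simp only [map_add, map_sub, map_smul, LinearMap.add_apply, LinearMap.sub_apply,
        LinearMap.smul_apply, haa, hxa u, hxa w, hu, hw, hwu, huw', hu2', ← hw2, hz', hb, hα8]
      module
    · conv_rhs => rw [← e0]
      simp only [map_add, map_sub, map_smul, haa, hu, hw, hα8]
      module

end Cfsg.Agent.Axial28
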